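import Groth.Agent.DVRFamilyLib.Basic

/-!
Connectedness of the generic fibre.
-/

set_option autoImplicit false
universe u
open CategoryTheory AlgebraicGeometry IsLocalRing

namespace Groth.Agent.DVRFamilyLib

/-- Idempotents extend over a reduced principal divisor. -/
theorem exists_idem {A B : Type u} [CommRing A] [CommRing B] [Algebra A B] (π : A) [IsLocalization.Away π B]
    (hπ : IsSMulRegular A π) (hred : ∀ a : A, a ^ 2 ∈ Ideal.span {π} → a ∈ Ideal.span {π}) (e : B) (he : IsIdempotentElem e) :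
    ∃ a : A, IsIdempotentElem a ∧ algebraMap A B a = e := by
  obtain ⟨n, a, ha⟩ := IsLocalization.Away.surj π e
  have hinj : Function.Injective (algebraMap A B) := IsLocalization.injective B (M := Submonoid.powers π) (fun z hz => by
    obtain ⟨k, rfl⟩ := hz
    exact mem_nonZeroDivisors_iff_right.2 fun w hw => (hπ.pow k) (by simp only [smul_eq_mul, mul_zero]; rw [mul_comm, hw]))
  have key : ∀ (n : ℕ) (a : A), e * algebraMap A B π ^ n = algebraMap A B a → ∃ a : A, algebraMap A B a = e := by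
    intro n
    induction n with
    | zero => exact fun a ha => ⟨a, by rw [← ha, pow_zero, mul_one]⟩
    | succ n ih =>
      intro a ha
      have h1 : a * a = π ^ (n + 1) * a := hinj (by
        rw [map_mul, map_mul, map_pow, ← ha,
          show e * algebraMap A B π ^ (n + 1) * (e * algebraMap A B π ^ (n + 1)) = (e * e) * algebraMap A B π ^ (n + 1) * algebraMap A B π ^ (n + 1) by ring, he]
        ring)
      obtain ⟨c, rfl⟩ := Ideal.mem_span_singleton'.1 (hred a (by
        rw [pow_two, h1, pow_succ, mul_comm (π ^ n) π, mul_assoc]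
        exact Ideal.mul_mem_right _ _ (Ideal.mem_span_singleton_self π)))
      refine ih c ((IsLocalization.Away.algebraMap_isUnit π).mul_right_cancel ?_)
      rw [mul_assoc, ← pow_succ, ha, map_mul]
  obtain ⟨a', ha'⟩ := key n a ha
  exact ⟨a', hinj (by rw [map_mul, ha']; exact he), ha'⟩

variable {R : Type u} [CommRing R] [IsDomain R] [IsDiscreteValuationRing R] {X : Scheme.{u}} (f : X ⟶ Spec (CommRingCat.of R))

theorem mem_generic_iff (ϖ : R) (hϖ : Irreducible ϖ) {U : X.Opens} (hU : IsAffineOpen U) (q : PrimeSpectrum Γ(X, U)) :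
    f (hU.fromSpec q) = (⟨⊥, Ideal.isPrime_bot⟩ : PrimeSpectrum R) ↔ str f U ϖ ∉ q.asIdeal := by
  refine ⟨fun h hq => ?_, fun h => ?_⟩
  · rw [image_eq_closedPoint f ϖ hϖ.maximalIdeal_eq hU q hq] at h
    exact IsDiscreteValuationRing.not_a_field R (congrArg PrimeSpectrum.asIdeal h)
  · rw [← Scheme.Hom.comp_apply, fromSpec_comp f hU]
    refine PrimeSpectrum.ext ?_
    show q.asIdeal.comap (str f U) = ⊥
    by_contra hne
    refine h (show ϖ ∈ q.asIdeal.comap (str f U) from ?_)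
    rw [eq_maximalIdeal ((Ideal.IsPrime.comap (str f U)).isMaximal hne), hϖ.maximalIdeal_eq]
    exact Ideal.mem_span_singleton_self ϖ

theorem disjoint_closure [Flat f] (hred : IsReduced (f.fiber (closedPoint R))) (W1 W2 : Set X) (h1 : IsOpen W1) (h2 : IsOpen W2)
    (hcov : W1 ∪ W2 = f ⁻¹' {(⟨⊥, Ideal.isPrime_bot⟩ : PrimeSpectrum R)}) (hdisj : Disjoint W1 W2) :
    Disjoint (closure W1) (closure W2) := by
  obtain ⟨ϖ, hirr⟩ := IsDiscreteValuationRing.exists_irreducible R
  refine Set.disjoint_left.2 fun x hx1 hx2 => ?_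
  obtain ⟨_, ⟨U : X.Opens, hU, rfl⟩, hxU, -⟩ := X.isBasis_affineOpens.exists_subset_of_mem_open (Set.mem_univ x) isOpen_univ
  let A := Γ(X, U)
  let π := str f U ϖ
  let B := Localization.Away π
  have hreg : IsSMulRegular A π := by
    letI := (str f U).toAlgebra
    haveI : Module.Flat R A := flat_str f hU
    intro c d hcd
    exact Module.Flat.isSMulRegular_of_nonZeroDivisors (M := A) (mem_nonZeroDivisors_of_ne_zero hirr.ne_zero)
      (show ϖ • c = ϖ • d by rw [Algebra.smul_def, Algebra.smul_def]; exact hcd)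
  let g : PrimeSpectrum B → X := fun P => hU.fromSpec (PrimeSpectrum.comap (algebraMap A B) P)
  have hg : Continuous g := hU.fromSpec.continuous.comp (PrimeSpectrum.continuous_comap _)
  have hgG : ∀ P, g P ∈ W1 ∪ W2 := fun P => by
    rw [hcov]
    refine (mem_generic_iff f ϖ hirr hU _).2 fun hP => P.isPrime.ne_top ?_
    exact Ideal.eq_top_of_isUnit_mem _ hP (IsLocalization.Away.algebraMap_isUnit π)
  have hclop : IsClopen (g ⁻¹' W1) := by
    refine ⟨⟨?_⟩, h1.preimage hg⟩
    convert! h2.preimage hg using 1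
    ext P
    exact ⟨fun h => (hgG P).resolve_left h, fun h h' => Set.disjoint_left.1 hdisj h' h⟩
  obtain ⟨e, he, heq⟩ := PrimeSpectrum.isClopen_iff.1 hclop
  obtain ⟨a, ha, hae⟩ := exists_idem π hreg (fun c hc => mem_span_of_pow_mem f ϖ hirr.maximalIdeal_eq hred hU c 2 hc) e he
  let O1 : Set X := hU.fromSpec '' (PrimeSpectrum.basicOpen a : Set (PrimeSpectrum A))
  let O2 : Set X := hU.fromSpec '' (PrimeSpectrum.basicOpen (1 - a) : Set (PrimeSpectrum A))
  have key : ∀ q : PrimeSpectrum A, π ∉ q.asIdeal → (hU.fromSpec q ∈ W1 ↔ a ∉ q.asIdeal) := fun q hq => by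
    obtain ⟨P, hP⟩ := (PrimeSpectrum.localization_away_comap_range B π).ge (show q ∈ (PrimeSpectrum.basicOpen π : Set (PrimeSpectrum A)) from hq)
    subst hP
    show P ∈ g ⁻¹' W1 ↔ algebraMap A B a ∉ P.asIdeal
    rw [heq, hae]
    rfl
  have hO1 : IsOpen O1 := hU.fromSpec.isOpenEmbedding.isOpenMap _ (PrimeSpectrum.basicOpen a).2
  have hO2 : IsOpen O2 := hU.fromSpec.isOpenEmbedding.isOpenMap _ (PrimeSpectrum.basicOpen (1 - a)).2
  obtain ⟨q, rfl⟩ : x ∈ Set.range hU.fromSpec := hU.range_fromSpec.ge hxU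
  rcases q.isPrime.mem_or_mem (show a * (1 - a) ∈ q.asIdeal by rw [mul_sub, mul_one, ha.eq, sub_self]; exact zero_mem _) with hq | hq
  · obtain ⟨y, ⟨r, hr, rfl⟩, hy⟩ := mem_closure_iff.1 hx1 O2 hO2 ⟨q, fun h1 => q.isPrime.ne_top
      ((Ideal.eq_top_iff_one _).2 (by rw [show (1 : A) = a + (1 - a) by ring]; exact add_mem hq h1)), rfl⟩
    have hrπ : π ∉ r.asIdeal := (mem_generic_iff f ϖ hirr hU r).1 (hcov.le (Or.inl hy))
    refine hr ((r.isPrime.mem_or_mem (show a * (1 - a) ∈ r.asIdeal by rw [mul_sub, mul_one, ha.eq, sub_self]; exact zero_mem _)).resolve_left ?_)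
    exact (key r hrπ).1 hy
  · obtain ⟨y, ⟨r, hr, rfl⟩, hy⟩ := mem_closure_iff.1 hx2 O1 hO1 ⟨q, fun h1 => q.isPrime.ne_top
      ((Ideal.eq_top_iff_one _).2 (by rw [show (1 : A) = a + (1 - a) by ring]; exact add_mem h1 hq)), rfl⟩
    have hrπ : π ∉ r.asIdeal := (mem_generic_iff f ϖ hirr hU r).1 (hcov.le (Or.inr hy))
    exact Set.disjoint_left.1 hdisj ((key r hrπ).2 hr) hy

theorem isConnected_generic [Flat f] [ConnectedSpace X] (hred : IsReduced (f.fiber (closedPoint R))) :
    _root_.IsConnected (f ⁻¹' {(⟨⊥, Ideal.isPrime_bot⟩ : PrimeSpectrum R)}) := by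
  set G := f ⁻¹' {(⟨⊥, Ideal.isPrime_bot⟩ : PrimeSpectrum R)}
  have hdense : ∀ x : X, ∃ u ∈ G, u ⤳ x := fun x => by
    obtain ⟨u, h1, h2⟩ := Flat.generalizingMap (f := f) (show (⟨⊥, Ideal.isPrime_bot⟩ : PrimeSpectrum R) ⤳ f x from
      (PrimeSpectrum.le_iff_specializes _ _).1 (show (⊥ : Ideal R) ≤ _ from bot_le))
    exact ⟨u, h2, h1⟩
  obtain ⟨x₀⟩ := (inferInstance : Nonempty X)
  obtain ⟨u, hu, -⟩ := hdense x₀
  refine ⟨⟨u, hu⟩, fun W1 W2 hW1 hW2 hsub hne1 hne2 => ?_⟩
  by_contra hemp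
  rw [Set.not_nonempty_iff_eq_empty] at hemp
  obtain ⟨ϖ, hirr⟩ := IsDiscreteValuationRing.exists_irreducible R
  have hG : IsOpen G := by
    have hb : IsOpen ({(⟨⊥, Ideal.isPrime_bot⟩ : PrimeSpectrum R)} : Set (PrimeSpectrum R)) := by
      convert! (PrimeSpectrum.basicOpen ϖ).2 using 1
      ext p
      refine ⟨?_, fun hp => PrimeSpectrum.ext ?_⟩
      · rintro rfl
        show ϖ ∉ (⊥ : Ideal R)
        exact hirr.ne_zero
      · by_contra hne
        refine hp ?_
        show ϖ ∈ p.asIdeal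
        rw [eq_maximalIdeal (p.isPrime.isMaximal hne), hirr.maximalIdeal_eq]
        exact Ideal.mem_span_singleton_self ϖ
    exact hb.preimage f.continuous
  have hd := disjoint_closure f hred (G ∩ W1) (G ∩ W2) (hG.inter hW1) (hG.inter hW2)
    (by rw [← Set.inter_union_distrib_left]; exact Set.inter_eq_left.2 hsub)
    (Set.disjoint_left.2 fun y h1 h2 => (Set.notMem_empty y) (hemp ▸ (show y ∈ G ∩ (W1 ∩ W2) from ⟨h1.1, h1.2, h2.2⟩)))
  have hcov : closure (G ∩ W1) ∪ closure (G ∩ W2) = Set.univ := by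
    rw [← closure_union, ← Set.inter_union_distrib_left, Set.inter_eq_left.2 hsub]
    refine Set.eq_univ_of_forall fun x => ?_
    obtain ⟨v, hv, hvx⟩ := hdense x
    exact closure_mono (Set.singleton_subset_iff.2 hv) (specializes_iff_mem_closure.1 hvx)
  obtain ⟨y, -, hy1, hy2⟩ := isPreconnected_closed_iff.1 isPreconnected_univ _ _ isClosed_closure isClosed_closure hcov.ge
    (hne1.imp fun y hy => ⟨trivial, subset_closure hy⟩) (hne2.imp fun y hy => ⟨trivial, subset_closure hy⟩)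
  exact Set.disjoint_left.1 hd hy1 hy2

end Groth.Agent.DVRFamilyLib
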