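import Mathlib
import Groth.Agent.FlatLocus.FibreStalk

/-!
Flat schemes over a discrete valuation ring with reduced special fibre.
-/

set_option autoImplicit false
universe u
open CategoryTheory AlgebraicGeometry IsLocalRing

namespace Groth.Agent.DVRFamilyLib

variable {R : Type u} [CommRing R] {X : Scheme.{u}} (f : X ⟶ Spec (CommRingCat.of R))

/-- The structure map of the sections over an open. -/
noncomputable def str (U : X.Opens) : R →+* Γ(X, U) :=
  (f.appLE ⊤ U (by simp)).hom.comp (Scheme.ΓSpecIso (CommRingCat.of R)).inv.hom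

theorem str_res {U V : X.Opens} (h : U ≤ V) (r : R) :
    X.presheaf.map (homOfLE h).op (str f V r) = str f U r := by
  show X.presheaf.map (homOfLE h).op (f.appLE ⊤ V (by simp) ((Scheme.ΓSpecIso (CommRingCat.of R)).inv r)) = _
  rw [← CommRingCat.comp_apply, Scheme.Hom.appLE_map]
  rfl

theorem flat_str [Flat f] {U : X.Opens} (hU : IsAffineOpen U) : (str f U).Flat :=
  (RingHom.Flat.of_bijective (ConcreteCategory.bijective_of_isIso (Scheme.ΓSpecIso (CommRingCat.of R)).inv)).comp
    (f.flat_appLE (isAffineOpen_top _) hU (by simp))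

theorem fromSpec_comp {U : X.Opens} (hU : IsAffineOpen U) :
    hU.fromSpec ≫ f = Spec.map (CommRingCat.ofHom (str f U)) := by
  rw [← IsAffineOpen.SpecMap_appLE_fromSpec f (isAffineOpen_top _) hU (by simp), IsAffineOpen.fromSpec_top,
    Scheme.isoSpec_Spec_inv, ← Spec.map_comp]
  rfl

theorem maximalIdeal_stalk_closedPoint [IsLocalRing R] (ϖ : R) (hϖ : maximalIdeal R = Ideal.span {ϖ})
    (s : Spec (CommRingCat.of R)) (hs : s = closedPoint R) :
    maximalIdeal ((Spec (CommRingCat.of R)).presheaf.stalk s) =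
      Ideal.span {(Spec (CommRingCat.of R)).presheaf.germ ⊤ s trivial ((Scheme.ΓSpecIso (CommRingCat.of R)).inv ϖ)} := by
  subst hs
  let e := (stalkClosedPointIso (CommRingCat.of R)).commRingCatIsoToRingEquiv
  have he : e ((Spec (CommRingCat.of R)).presheaf.germ ⊤ (closedPoint R) trivial ((Scheme.ΓSpecIso (CommRingCat.of R)).inv ϖ)) = ϖ := by
    show (stalkClosedPointIso (CommRingCat.of R)).hom _ = ϖ
    have h1 := ConcreteCategory.congr_hom (germ_stalkClosedPointIso_hom (R := CommRingCat.of R)) ((Scheme.ΓSpecIso (CommRingCat.of R)).inv ϖ)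
    refine h1.trans ?_
    exact ConcreteCategory.congr_hom (Scheme.ΓSpecIso (CommRingCat.of R)).inv_hom_id ϖ
  ext z
  rw [Ideal.mem_span_singleton, ← map_dvd_iff e, he, ← Ideal.mem_span_singleton, ← hϖ, mem_maximalIdeal,
    mem_maximalIdeal, mem_nonunits_iff, mem_nonunits_iff, isUnit_map_iff]

variable [IsLocalRing R] (ϖ : R) (hϖ : maximalIdeal R = Ideal.span {ϖ})
include hϖ

theorem image_eq_closedPoint {U : X.Opens} (hU : IsAffineOpen U) (q : PrimeSpectrum Γ(X, U))
    (hq : str f U ϖ ∈ q.asIdeal) : f (hU.fromSpec q) = closedPoint R := by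
  rw [← Scheme.Hom.comp_apply, fromSpec_comp f hU]
  refine PrimeSpectrum.ext ?_
  show q.asIdeal.comap (str f U) = maximalIdeal R
  refine ((maximalIdeal.isMaximal R).eq_of_le (Ideal.IsPrime.ne_top inferInstance) ?_).symm
  rw [hϖ, Ideal.span_le, Set.singleton_subset_iff]
  exact hq

/-- The special fibre is reduced on affine opens. -/
theorem mem_span_of_pow_mem (hred : IsReduced (f.fiber (closedPoint R))) {U : X.Opens} (hU : IsAffineOpen U)
    (b : Γ(X, U)) (n : ℕ) (hb : b ^ n ∈ Ideal.span {str f U ϖ}) : b ∈ Ideal.span {str f U ϖ} := by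
  let J : Ideal Γ(X, U) := Submodule.comap (LinearMap.mulRight Γ(X, U) b) (Ideal.span {str f U ϖ})
  suffices hJ : J = ⊤ by
    have h1 : (1 : Γ(X, U)) ∈ J := hJ ▸ trivial
    simpa [J] using h1
  by_contra hJ
  obtain ⟨q, hq, hJq⟩ := Ideal.exists_le_maximal J hJ
  have hπq : str f U ϖ ∈ q := hJq (show _ * b ∈ Ideal.span {str f U ϖ} from Ideal.mul_mem_right _ _ (Ideal.mem_span_singleton_self _))
  let P : PrimeSpectrum Γ(X, U) := ⟨q, hq.isPrime⟩
  have hzU : hU.fromSpec P ∈ U := hU.range_fromSpec.le ⟨P, rfl⟩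
  letI : Algebra Γ(X, U) (X.presheaf.stalk (hU.fromSpec P)) := TopCat.Presheaf.algebra_section_stalk X.presheaf ⟨_, hzU⟩
  haveI : IsLocalization.AtPrime (X.presheaf.stalk (hU.fromSpec P)) q := hU.isLocalization_stalk' P hzU
  have hs : f (hU.fromSpec P) = closedPoint R := image_eq_closedPoint f ϖ hϖ hU P hπq
  have key : ∀ (x : X) (hx : x ∈ U), f x = closedPoint R →
      X.presheaf.germ U x hx b ∈ Ideal.span {X.presheaf.germ U x hx (str f U ϖ)} := by
    intro x hx hfx
    obtain ⟨w, rfl⟩ : x ∈ Set.range (f.fiberι (closedPoint R)) := by rw [Scheme.Hom.range_fiberι]; exact hfx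
    have hker := FlatLocus.ker_fiberι_stalkMap f (closedPoint R) w
    rw [maximalIdeal_stalk_closedPoint ϖ hϖ _ hfx, Ideal.map_span, Set.image_singleton, Scheme.Hom.germ_stalkMap_apply] at hker
    have hg : (X.presheaf.germ U (f.fiberι (closedPoint R) w) hx (str f U ϖ)) =
        X.presheaf.germ (f ⁻¹ᵁ ⊤) (f.fiberι (closedPoint R) w) trivial
          (f.app ⊤ ((Scheme.ΓSpecIso (CommRingCat.of R)).inv ϖ)) := by
      show X.presheaf.germ U _ hx (f.appLE ⊤ U (by simp) _) = _
      rw [Scheme.Hom.appLE, CommRingCat.comp_apply, X.presheaf.germ_res_apply]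
    rw [hg, ← hker, RingHom.mem_ker]
    refine IsReduced.eq_zero _ ⟨n, ?_⟩
    rw [← map_pow, ← map_pow, ← RingHom.mem_ker, hker, ← hg]
    have h1 := Ideal.mem_map_of_mem (X.presheaf.germ U (f.fiberι (closedPoint R) w) hx).hom hb
    rwa [Ideal.map_span, Set.image_singleton] at h1
  have h2 : algebraMap Γ(X, U) (X.presheaf.stalk (hU.fromSpec P)) b ∈ (Ideal.span {str f U ϖ}).map (algebraMap Γ(X, U) _) := by
    rw [Ideal.map_span, Set.image_singleton]
    exact key _ hzU hs
  obtain ⟨t, ht, htb⟩ := (IsLocalization.algebraMap_mem_map_algebraMap_iff q.primeCompl (X.presheaf.stalk (hU.fromSpec P)) _ b).1 h2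
  exact ht (hJq htb)

end Groth.Agent.DVRFamilyLib
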